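import Mathlib

/-! Kummer theory over henselian discrete valuation rings with algebraically closed residue field. -/

set_option autoImplicit false
universe u

open Polynomial IsLocalRing

namespace HenselKummerLib

/-- A unit of a henselian local ring is an `N`-th power if it is one modulo the maximal ideal. -/
theorem exists_pow_eq {B : Type u} [CommRing B] [HenselianLocalRing B] {N : ℕ}
    (hN : (N : ResidueField B) ≠ 0) (u : B) (hu : IsUnit u) (a₀ : B)
    (ha₀ : residue B a₀ ^ N = residue B u) : ∃ w : B, w ^ N = u ∧ residue B w = residue B a₀ := by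
  have hN0 : N ≠ 0 := fun h => hN (by rw [h, Nat.cast_zero])
  obtain ⟨w, hw, hwa⟩ := HenselianLocalRing.is_henselian (X ^ N - C u) (monic_X_pow_sub_C u hN0) a₀
    (by rw [← residue_eq_zero_iff, eval_sub, eval_pow, eval_X, eval_C, map_sub, map_pow, ha₀, sub_self])
    (by
      by_contra hnu
      have h1 : residue B ((X ^ N - C u).derivative.eval a₀) = 0 :=
        (residue_eq_zero_iff _).2 hnu
      simp only [derivative_sub, derivative_X_pow, derivative_C, sub_zero, eval_mul, eval_C, eval_pow,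
        eval_X, map_mul, eval_natCast, map_natCast, map_pow, mul_eq_zero, hN, false_or] at h1
      have h2 : residue B a₀ = 0 := eq_zero_of_pow_eq_zero h1
      rw [h2, zero_pow hN0] at ha₀
      exact (residue_ne_zero_iff_isUnit u).2 hu ha₀.symm)
  refine ⟨w, ?_, ?_⟩
  · rw [IsRoot.def, eval_sub, eval_pow, eval_X, eval_C, sub_eq_zero] at hw
    exact hw
  · rw [← sub_eq_zero, ← map_sub, residue_eq_zero_iff]
    exact hwa

variable (O : Type u) [CommRing O] [IsDomain O] [HenselianLocalRing O] [IsAlgClosed (ResidueField O)]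

theorem exists_pow_eq' {N : ℕ} (hN : (N : ResidueField O) ≠ 0) (u : O) (hu : IsUnit u) :
    ∃ w : O, w ^ N = u := by
  have hN0 : N ≠ 0 := fun h => hN (by rw [h, Nat.cast_zero])
  obtain ⟨c, hc⟩ := IsAlgClosed.exists_pow_nat_eq (residue O u) (Nat.pos_of_ne_zero hN0)
  obtain ⟨a₀, rfl⟩ := residue_surjective c
  obtain ⟨w, hw, -⟩ := exists_pow_eq hN u hu a₀ hc
  exact ⟨w, hw⟩

theorem primitiveRoots_nonempty {N : ℕ} (hN : (N : ResidueField O) ≠ 0) :
    (primitiveRoots N (FractionRing O)).Nonempty := by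
  have hN0 : N ≠ 0 := fun h => hN (by rw [h, Nat.cast_zero])
  haveI : NeZero (N : ResidueField O) := ⟨hN⟩
  obtain ⟨z, hz⟩ := HasEnoughRootsOfUnity.exists_primitiveRoot (ResidueField O) N
  obtain ⟨a₀, rfl⟩ := residue_surjective z
  obtain ⟨w, hw, hwa⟩ := exists_pow_eq hN (1 : O) isUnit_one a₀ (by rw [hz.pow_eq_one, map_one])
  refine ⟨algebraMap O (FractionRing O) w, (mem_primitiveRoots (Nat.pos_of_ne_zero hN0)).2 ?_⟩
  refine IsPrimitiveRoot.map_of_injective (f := algebraMap O (FractionRing O)) ?_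
    (IsFractionRing.injective O (FractionRing O))
  refine ⟨hw, fun l hl => hz.dvd_of_pow_eq_one l ?_⟩
  rw [← hwa, ← map_pow, hl, map_one]

variable [IsDiscreteValuationRing O]

theorem irreducible_X_pow_sub {ϖ : O} (hϖ : Irreducible ϖ) {N : ℕ} (hN : N ≠ 0) :
    Irreducible (X ^ N - C (algebraMap O (FractionRing O) ϖ)) := by
  have hm : maximalIdeal O = Ideal.span {ϖ} := hϖ.maximalIdeal_eq
  have hmon : (X ^ N - C ϖ).Monic := monic_X_pow_sub_C ϖ hN
  have he : (X ^ N - C ϖ).IsEisensteinAt (maximalIdeal O) := by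
    refine ⟨?_, fun {i} hi => ?_, ?_⟩
    · rw [hmon.leadingCoeff]
      exact fun h => (maximalIdeal.isMaximal O).ne_top ((Ideal.eq_top_iff_one _).2 h)
    · rw [natDegree_X_pow_sub_C] at hi
      rw [coeff_sub, coeff_X_pow, if_neg hi.ne, coeff_C]
      split_ifs with h
      · rw [zero_sub]; exact neg_mem (hm ▸ Ideal.mem_span_singleton_self ϖ)
      · simp
    · rw [coeff_sub, coeff_X_pow, if_neg (Ne.symm hN), coeff_C_zero, zero_sub, neg_mem_iff, hm,
        Ideal.span_singleton_pow, Ideal.mem_span_singleton]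
      intro h
      have hpw : ϖ ^ 2 ∣ ϖ ^ 1 := by rw [pow_one]; exact h
      have := (pow_dvd_pow_iff hϖ.ne_zero hϖ.not_isUnit).1 hpw
      omega
  have hirr : Irreducible (X ^ N - C ϖ) := he.irreducible (maximalIdeal.isMaximal O).isPrime hmon.isPrimitive
    (by rw [natDegree_X_pow_sub_C]; exact Nat.pos_of_ne_zero hN)
  have := (hmon.irreducible_iff_irreducible_map_fraction_map (K := FractionRing O)).1 hirr
  rwa [Polynomial.map_sub, Polynomial.map_pow, map_X, map_C] at this

end HenselKummerLib
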